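import Groth.Prelude.Def_KLin
import Groth.Agent.H22Alg.CMStep
import Groth.Agent.H17.FLI.DivExt
import Groth.Agent.H23KS.RankOne
import Groth.Agent.LeadPic.PnRel
import Groth.Agent.H02CA.VBPn.SerreSeq
import Groth.Agent.H10Coh.SlopeReg.Main
import Groth.Agent.H29RR.Indecomposable

/-! # Twists and morphisms out of twisting sheaves on the projective plane -/

set_option autoImplicit false
set_option backward.isDefEq.respectTransparency.types false
set_option linter.style.haveILetI false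
set_option linter.unusedSectionVars false

universe u

open CategoryTheory CategoryTheory.Limits AlgebraicGeometry Opposite
attribute [local instance 10000] Groth.Agent.H10Coh.hasSheafifyAb Groth.Agent.H10Coh.hasWeakSheafifyAb Groth.Agent.H10Coh.hasExtAb Groth.Agent.H10Coh.enoughInjAb

noncomputable section

namespace Groth.Agent.H10Coh.Gaeta

open H22Alg H22Alg.CMField

variable (k : Type u) [Field k]

/-- The plane. -/
abbrev P2 : Scheme.{u} := CohB1.ProjSpace 2 k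

/-- The twists. -/
abbrev O (d : ℤ) : (P2 k).Modules := Twist.twistProjSpace 2 k d

/-- Tensoring with `O(d)`. -/
abbrev G (d : ℤ) : (P2 k).Modules ⥤ (P2 k).Modules := (DCoh.tensorBi (X := P2 k)).flip.obj (O k d)

theorem nonempty_pair (d : ℤ) : Nonempty (CohB1.tensorMod (O k d) (O k (-d)) ≅ Coh.structureModule (P2 k)) := by
  obtain ⟨u⟩ := (setup k 2).fam.add d (-d)
  obtain ⟨z⟩ := (setup k 2).fam.zero
  exact ⟨u ≪≫ eqToIso (congrArg (O k) (add_neg_cancel d)) ≪≫ z⟩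

instance isEquivalence_G (d : ℤ) : (G k d).IsEquivalence :=
  H17.FLI.DivExt.isEquivalence_flip (nonempty_pair k d).some

instance additive_G (d : ℤ) : (G k d).Additive :=
  Functor.additive_of_preserves_binary_products _

variable {k}

theorem G_map {M N : (P2 k).Modules} (f : M ⟶ N) (d : ℤ) : (G k d).map f = LimSh.tensorModMap f (O k d) := rfl

theorem hom_ext {M : (P2 k).Modules} {φ ψ : Coh.structureModule (P2 k) ⟶ M}
    (h : φ.app ⊤ (1 : Γ(P2 k, ⊤)) = ψ.app ⊤ (1 : Γ(P2 k, ⊤))) : φ = ψ := by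
  rw [H02CA.VBPn.eq_homOfGlobal φ, H02CA.VBPn.eq_homOfGlobal ψ, h]

theorem homOfGlobal_val {M : (P2 k).Modules} (t : Γ(M, ⊤)) :
    (H11Tilde.homOfGlobal M t).app ⊤ (1 : Γ(P2 k, ⊤)) = t := by
  rw [H11Tilde.homOfGlobal_app]
  exact (one_smul _ _).trans (H10Coh.mres_self _ _ _)

/-- The source of a morphism moved to the structure module. -/
def unitIso (d : ℤ) : Coh.structureModule (P2 k) ≅ (G k (-d)).obj (O k d) := (nonempty_pair k d).some.symm

theorem hom_eq_zero {d : ℤ} {M : (P2 k).Modules}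
    (h : Subsingleton (Coh.HH (P2 k) (CohB1.tensorMod M (O k (-d))) 0)) (g : O k d ⟶ M) : g = 0 := by
  apply (G k (-d)).map_injective
  rw [Functor.map_zero, ← cancel_epi (unitIso d).hom, Limits.comp_zero]
  refine hom_ext (Eq.trans ?_ (by rfl : (0 : Γ((G k (-d)).obj M, ⊤)) = _))
  obtain ⟨v, hv⟩ := (H29RR.sec ((G k (-d)).obj M)).surjective
    (((unitIso d).hom ≫ (G k (-d)).map g).app ⊤ (1 : Γ(P2 k, ⊤)))
  rw [← hv, @Subsingleton.elim _ h v 0]
  exact map_zero (H29RR.sec ((G k (-d)).obj M))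

theorem van0_of_hom {d : ℤ} {M : (P2 k).Modules} (h : ∀ g : O k d ⟶ M, g = 0) :
    Subsingleton (Coh.HH (P2 k) (CohB1.tensorMod M (O k (-d))) 0) := by
  refine subsingleton_of_forall_eq 0 fun v => (H29RR.sec ((G k (-d)).obj M)).injective ?_
  refine Eq.trans ?_ (map_zero (H29RR.sec ((G k (-d)).obj M))).symm
  obtain ⟨g, hg⟩ := (G k (-d)).map_surjective
    ((unitIso d).inv ≫ H11Tilde.homOfGlobal ((G k (-d)).obj M) (H29RR.sec _ v))
  rw [h g, Functor.map_zero, ← cancel_epi (unitIso d).hom, Iso.hom_inv_id_assoc, Limits.comp_zero] at hg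
  rw [← homOfGlobal_val (H29RR.sec ((G k (-d)).obj M) v), ← hg]
  rfl

/-- Lifting morphisms out of `O(d)` gives surjectivity on sections of the twist. -/
theorem surjective_of_lift {d : ℤ} {M N : (P2 k).Modules} (f : M ⟶ N)
    (h : ∀ g : O k d ⟶ N, ∃ g' : O k d ⟶ M, g' ≫ f = g) :
    Function.Surjective ((LimSh.tensorModMap f (O k (-d))).app ⊤) := by
  intro t
  obtain ⟨g, hg⟩ := (G k (-d)).map_surjective ((unitIso d).inv ≫ H11Tilde.homOfGlobal ((G k (-d)).obj N) t)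
  obtain ⟨g', hg'⟩ := h g
  rw [← hg', Functor.map_comp, ← cancel_epi (unitIso d).hom, Iso.hom_inv_id_assoc] at hg
  refine ⟨((unitIso d).hom ≫ (G k (-d)).map g').app ⊤ (1 : Γ(P2 k, ⊤)), ?_⟩
  have e := congrArg (fun φ => φ.app ⊤ (1 : Γ(P2 k, ⊤))) hg
  exact e.trans (homOfGlobal_val (M := (G k (-d)).obj N) t)

/-- The endomorphisms of a twist are scalars. -/
theorem end_scalar [IsAlgClosed k] (d : ℤ) (φ : O k d ⟶ O k d) : ∃ c : k, φ = c • 𝟙 (O k d) := by
  haveI : IsProper (P2 k ↘ Spec (CommRingCat.of k)) := MumfordBound.proper_toSpec (k := k) (n := 2)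
  haveI : IsIntegral (P2 k) := LeadPic.PnRel.isIntegral_projSpace 2 k
  have hi := (setup k 2).fam.inv d
  obtain ⟨c, hc⟩ := H23KS.end_invertible_scalar (K := k) hi (fun hz => by
    obtain ⟨U, e, hU, he⟩ := H11Ample.exists_gen hi (genericPoint (P2 k))
    have hinj := (he _ hU).1
    haveI : Subsingleton ((O k d).presheaf.stalk (genericPoint (P2 k))) :=
      ModuleCat.isZero_iff_subsingleton.1 ((DerSch.stalkFunctor (P2 k) _).map_isZero hz)
    exact zero_ne_one (hinj (Subsingleton.elim ((0 : (P2 k).presheaf.stalk (genericPoint (P2 k))) •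
      (O k d).presheaf.germ U _ hU e) ((1 : (P2 k).presheaf.stalk (genericPoint (P2 k))) • _)))) φ
  exact ⟨c, hc.trans (KLin.smul_id (O k d) c).symm⟩

theorem end_scalar_unit [IsAlgClosed k] (φ : Coh.structureModule (P2 k) ⟶ Coh.structureModule (P2 k)) :
    ∃ c : k, φ = c • 𝟙 (Coh.structureModule (P2 k)) := by
  obtain ⟨z⟩ := (setup k 2).fam.zero
  obtain ⟨c, hc⟩ := end_scalar 0 (z.hom ≫ φ ≫ z.inv)
  refine ⟨c, ?_⟩
  rw [← cancel_epi z.hom, ← cancel_mono z.inv, Category.assoc, hc]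
  simp

/-- Cohomology of the twists. -/
theorem van_O {d : ℤ} {q : ℕ} (h₀ : ¬ (q = 0 ∧ 0 ≤ d)) (hn : ¬ (q = 2 ∧ d ≤ -3)) : Van q (O k d) :=
  van_iff.2 (H10Coh.Pn.subsingleton_HH_Od (R := k) q h₀ (by simpa using hn))

theorem van_O_tensor {a b : ℤ} {q : ℕ} (h₀ : ¬ (q = 0 ∧ 0 ≤ a + b)) (hn : ¬ (q = 2 ∧ a + b ≤ -3)) :
    Van q (CohB1.tensorMod (O k a) (O k b)) := by
  obtain ⟨u⟩ := (setup k 2).fam.add a b
  exact H10Coh.Tw.subsingleton_of_iso u.symm (van_O h₀ hn)

theorem van_sigma {b : ℕ} (a j : ℤ) {q : ℕ} (h₀ : ¬ (q = 0 ∧ 0 ≤ a + j)) (hn : ¬ (q = 2 ∧ a + j ≤ -3)) :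
    Van q (CohB1.tensorMod (∐ fun _ : Fin b => O k a) (O k j)) :=
  H10Coh.Tw.subsingleton_sigma_tensor (fun _ : Fin b => O k a) ((setup k 2).fam.inv j) fun _ =>
    van_O_tensor h₀ hn

theorem van_sigma_unit {b : ℕ} (j : ℤ) {q : ℕ} (h₀ : ¬ (q = 0 ∧ 0 ≤ j)) (hn : ¬ (q = 2 ∧ j ≤ -3)) :
    Van q (CohB1.tensorMod (∐ fun _ : Fin b => Coh.structureModule (P2 k)) (O k j)) :=
  H10Coh.Tw.subsingleton_sigma_tensor (fun _ : Fin b => Coh.structureModule (P2 k)) ((setup k 2).fam.inv j) fun _ =>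
    H10Coh.Tw.subsingleton_of_iso (H10Coh.Tw.leftUnitIso (O k j)).symm (van_O h₀ hn)

attribute [local instance] Abelian.hasFiniteBiproducts

/-- The middle term of a Gaeta resolution. -/
abbrev mid (b c : ℕ) : (P2 k).Modules :=
  (∐ fun _ : Fin b => O k (-1)) ⊞ (∐ fun _ : Fin c => Coh.structureModule (P2 k))

theorem van_mid {b c : ℕ} (j : ℤ) {q : ℕ} (h₀ : ¬ (q = 0 ∧ 0 ≤ j - 1)) (h₀' : ¬ (q = 0 ∧ 0 ≤ j))
    (hn : ¬ (q = 2 ∧ j ≤ -2)) : Van q (CohB1.tensorMod (mid (k := k) b c) (O k j)) := by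
  haveI := preservesBinaryBiproducts_of_preservesBinaryCoproducts (G k j)
  refine H10Coh.Tw.subsingleton_of_iso ((G k j).mapBiprod _ _).symm (van_biprod ?_ ?_)
  · exact van_sigma (-1) j (by omega) (by omega)
  · exact van_sigma_unit j h₀' (by omega)

theorem van_tensor_zero {M : (P2 k).Modules} {q : ℕ} :
    Van q (CohB1.tensorMod M (O k 0)) ↔ Subsingleton (Coh.HH (P2 k) M q) := by
  obtain ⟨z⟩ := (setup k 2).fam.zero
  let e : CohB1.tensorMod M (O k 0) ≅ M := PicGrp.tensorModIso (Iso.refl M) z ≪≫ H10Coh.Tw.rightUnitIso M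
  exact ⟨fun h => van_iff.1 (H10Coh.Tw.subsingleton_of_iso e h),
    fun h => H10Coh.Tw.subsingleton_of_iso e.symm (van_iff.2 h)⟩

/-- A morphism into a finite sum of copies of a module is the sum of its components. -/
theorem eq_sum_components {M A : (P2 k).Modules} {c : ℕ} (h : M ⟶ ∐ fun _ : Fin c => A) :
    h = ∑ i, (h ≫ Sigma.desc fun j => if j = i then 𝟙 A else 0) ≫ Sigma.ι (fun _ : Fin c => A) i := by
  classical
  have hid : (∑ i, (Sigma.desc fun j => if j = i then 𝟙 A else 0) ≫ Sigma.ι (fun _ : Fin c => A) i) =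
      𝟙 (∐ fun _ : Fin c => A) := by
    refine Sigma.hom_ext _ _ fun j => ?_
    rw [Preadditive.comp_sum, Finset.sum_eq_single j]
    · rw [← Category.assoc, Sigma.ι_desc, if_pos rfl, Category.id_comp, Category.comp_id]
    · intro b _ hb
      rw [← Category.assoc, Sigma.ι_desc, if_neg (Ne.symm hb), Limits.zero_comp]
    · simp
  conv_lhs => rw [← Category.comp_id h, ← hid, Preadditive.comp_sum]
  simp

end Groth.Agent.H10Coh.Gaeta
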