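import Groth.Agent.H10Coh.Gaeta.Basic
import Groth.Agent.LeadDev.Basic

/-! # Gaeta resolutions on the projective plane -/

set_option autoImplicit false
set_option backward.isDefEq.respectTransparency.types false
set_option linter.style.haveILetI false
set_option linter.unusedSectionVars false

universe u

open CategoryTheory CategoryTheory.Limits AlgebraicGeometry Opposite
open scoped TensorProduct
attribute [local instance 10000] Groth.Agent.H10Coh.hasSheafifyAb Groth.Agent.H10Coh.hasWeakSheafifyAb Groth.Agent.H10Coh.hasExtAb Groth.Agent.H10Coh.enoughInjAb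
attribute [local instance] Abelian.hasFiniteBiproducts

noncomputable section

namespace Groth.Agent.H10Coh.Gaeta

open H22Alg H22Alg.CMField

variable {k : Type u} [Field k]

local notation "U" => Coh.structureModule (P2 k)

/-- Van in degree zero of a submodule. -/
theorem van0_of_mono {M N : (P2 k).Modules} {j : ℤ} (f : M ⟶ N) [Mono f]
    (h : Van 0 (CohB1.tensorMod N (O k j))) : Van 0 (CohB1.tensorMod M (O k j)) := by
  rw [← neg_neg j] at h ⊢
  refine van_iff.2 (van0_of_hom fun g => ?_)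
  rw [← cancel_mono f, Limits.zero_comp]
  exact hom_eq_zero (van_iff.1 h) _

theorem van0_X₃ {S : ShortComplex (P2 k).Modules} (hS : S.ShortExact) {q : ℕ} (j : ℤ)
    (h₂ : Van q (CohB1.tensorMod S.X₂ (O k j))) (h₁ : Van (q + 1) (CohB1.tensorMod S.X₁ (O k j))) :
    Van q (CohB1.tensorMod S.X₃ (O k j)) :=
  SlopeReg.van_right (H10Coh.Tw.shortExact_seq hS ((setup k 2).fam.inv j)) h₂ h₁

theorem hom_unit_eq_zero {d : ℤ} {M : (P2 k).Modules} (h : ∀ g : O k d ⟶ M, g = 0) (g : O k d ⟶ M) : g = 0 := h g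

/-- Lifting maps out of the structure module through an epimorphism whose kernel has no first cohomology. -/
theorem exists_lift {S : ShortComplex (P2 k).Modules} (hS : S.ShortExact) (h₁ : Subsingleton (Coh.HH (P2 k) S.X₁ 1))
    (g : U ⟶ S.X₃) : ∃ g' : U ⟶ S.X₂, g' ≫ S.g = g := by
  obtain ⟨v, hv⟩ := NakaiGen.hhlin_g_surjective k hS 0
    (fun a b _ => @Subsingleton.elim _ h₁ a b) ((H29RR.sec S.X₃).symm (g.app ⊤ (1 : Γ(P2 k, ⊤))))
  refine ⟨H11Tilde.homOfGlobal _ (H29RR.sec S.X₂ v), hom_ext ?_⟩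
  show S.g.app ⊤ ((H11Tilde.homOfGlobal _ _).app ⊤ (1 : Γ(P2 k, ⊤))) = _
  rw [homOfGlobal_val, ← H29RR.sec_natural (k := k), hv, AddEquiv.apply_symm_apply]

/-- The composition map. -/
abbrev μ (F : (P2 k).Modules) : (O k (-1) ⟶ U) ⊗[k] (U ⟶ F) →ₗ[k] (O k (-1) ⟶ F) :=
  TensorProduct.lift (CategoryTheory.Linear.comp (O k (-1)) U F : (O k (-1) ⟶ U) →ₗ[k] (U ⟶ F) →ₗ[k] (O k (-1) ⟶ F))

section forward

variable [IsAlgClosed k] {F : (P2 k).Modules} {α₁ α₂ α₃ : ℕ}

theorem forward {S : ShortComplex (P2 k).Modules} (hS : S.ShortExact)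
    (e₁ : S.X₁ ≅ ∐ fun _ : Fin α₁ => O k (-2)) (e₂ : S.X₂ ≅ mid α₂ α₃) (e₃ : S.X₃ ≅ F) :
    Subsingleton (Coh.HH (P2 k) (CohB1.tensorMod F (O k (-1))) 0) ∧
      Subsingleton (Coh.HH (P2 k) (CohB1.tensorMod F (O k (-1))) 2) ∧
      Subsingleton (Coh.HH (P2 k) F 1) ∧ Subsingleton (Coh.HH (P2 k) F 2) ∧
      Subsingleton (Coh.HH (P2 k) (CohB1.tensorMod F (O k 1)) 1) ∧
      Subsingleton (Coh.HH (P2 k) (CohB1.tensorMod F (O k 1)) 2) ∧
      Function.Injective (μ F) := by
  classical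
  have h1 : ∀ (j : ℤ) (q : ℕ), ¬ (q = 0 ∧ 0 ≤ -2 + j) → ¬ (q = 2 ∧ -2 + j ≤ -3) →
      Van q (CohB1.tensorMod S.X₁ (O k j)) := fun j q a b =>
    H10Coh.Tw.subsingleton_of_iso (PicGrp.tensorModIso e₁ (Iso.refl _)).symm (van_sigma (-2) j a b)
  have h2 : ∀ (j : ℤ) (q : ℕ), ¬ (q = 0 ∧ 0 ≤ j - 1) → ¬ (q = 0 ∧ 0 ≤ j) → ¬ (q = 2 ∧ j ≤ -2) →
      Van q (CohB1.tensorMod S.X₂ (O k j)) := fun j q a b c =>
    H10Coh.Tw.subsingleton_of_iso (PicGrp.tensorModIso e₂ (Iso.refl _)).symm (van_mid j a b c)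
  have h3 : ∀ (j : ℤ) (q : ℕ), ¬ (q = 0 ∧ 0 ≤ j - 1) → ¬ (q = 0 ∧ 0 ≤ j) → ¬ (q = 2 ∧ j ≤ -2) →
      ¬ (q + 1 = 2 ∧ -2 + j ≤ -3) → Van q (CohB1.tensorMod F (O k j)) := fun j q a b c d =>
    H10Coh.Tw.subsingleton_of_iso (PicGrp.tensorModIso e₃ (Iso.refl _))
      (van0_X₃ hS j (h2 j q a b c) (h1 j (q + 1) (by omega) d))
  refine ⟨van_iff.1 (h3 (-1) 0 (by omega) (by omega) (by omega) (by omega)),
    van_iff.1 (h3 (-1) 2 (by omega) (by omega) (by omega) (by omega)),
    van_tensor_zero.1 (h3 0 1 (by omega) (by omega) (by omega) (by omega)),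
    van_tensor_zero.1 (h3 0 2 (by omega) (by omega) (by omega) (by omega)),
    van_iff.1 (h3 1 1 (by omega) (by omega) (by omega) (by omega)),
    van_iff.1 (h3 1 2 (by omega) (by omega) (by omega) (by omega)), ?_⟩
  rw [injective_iff_map_eq_zero]
  intro t ht
  let p : mid α₂ α₃ ⟶ F := e₂.inv ≫ S.g ≫ e₃.hom
  let e : Fin α₃ → (U ⟶ F) := fun i => Sigma.ι (fun _ : Fin α₃ => U) i ≫ biprod.inr ≫ p
  have hspan : Submodule.span k (Set.range e) = ⊤ := by
    refine Submodule.eq_top_iff'.2 fun s => ?_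
    obtain ⟨s', hs'⟩ := exists_lift hS (van_tensor_zero.1 (h1 0 1 (by omega) (by omega))) (s ≫ e₃.inv)
    have hs : s = (s' ≫ e₂.hom) ≫ p := by
      simp only [p, Category.assoc, Iso.hom_inv_id_assoc]
      rw [← Category.assoc, hs', Category.assoc, Iso.inv_hom_id, Category.comp_id]
    have hl : (s' ≫ e₂.hom) ≫ biprod.fst = 0 := by
      obtain ⟨z⟩ := (setup k 2).fam.zero
      rw [← cancel_epi z.hom, Limits.comp_zero]
      exact hom_eq_zero (van_iff.1 (van_sigma (-1) (-0) (by omega) (by omega))) _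
    rw [hs, show s' ≫ e₂.hom = ((s' ≫ e₂.hom) ≫ biprod.snd) ≫ biprod.inr from ?_,
      eq_sum_components ((s' ≫ e₂.hom) ≫ biprod.snd), Preadditive.sum_comp, Preadditive.sum_comp]
    · refine Submodule.sum_mem _ fun i _ => ?_
      obtain ⟨c, hc⟩ := end_scalar_unit (((s' ≫ e₂.hom) ≫ biprod.snd) ≫ Sigma.desc fun j => if j = i then 𝟙 U else 0)
      rw [hc]
      simp only [Linear.smul_comp, Category.id_comp, Category.assoc]
      exact Submodule.smul_mem _ _ (Submodule.subset_span ⟨i, rfl⟩)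
    · conv_lhs => rw [← Category.comp_id (s' ≫ e₂.hom), ← biprod.total, Preadditive.comp_add]
      rw [← Category.assoc, hl, Limits.zero_comp, zero_add]
      simp only [Category.assoc]
  obtain ⟨ψ, hψ⟩ : ∃ ψ : Fin α₃ → (O k (-1) ⟶ U), t = ∑ i, ψ i ⊗ₜ[k] e i := by
    have key : ∀ x : (O k (-1) ⟶ U) ⊗[k] (U ⟶ F), ∃ ψ : Fin α₃ → (O k (-1) ⟶ U), x = ∑ i, ψ i ⊗ₜ[k] e i := by
      intro x
      induction x using TensorProduct.induction_on with
      | zero => exact ⟨0, by simp⟩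
      | tmul a b =>
        obtain ⟨c, hc⟩ := (Submodule.mem_span_range_iff_exists_fun k).1
          (hspan.symm ▸ Submodule.mem_top : b ∈ Submodule.span k (Set.range e))
        refine ⟨fun i => c i • a, ?_⟩
        rw [← hc, TensorProduct.tmul_sum]
        simp [TensorProduct.smul_tmul]
      | add a b ha hb =>
        obtain ⟨u, rfl⟩ := ha
        obtain ⟨v, rfl⟩ := hb
        exact ⟨u + v, by simp [TensorProduct.add_tmul, Finset.sum_add_distrib]⟩
    exact key t
  let w : O k (-1) ⟶ mid α₂ α₃ := (∑ i, ψ i ≫ Sigma.ι (fun _ : Fin α₃ => U) i) ≫ biprod.inr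
  have hw : w ≫ p = 0 := by
    rw [← ht, hψ]
    simp [w, e, μ, Preadditive.sum_comp]
  have hw' : (w ≫ e₂.inv) ≫ S.g = 0 := by
    rw [← cancel_mono e₃.hom, Limits.zero_comp, Category.assoc, Category.assoc]
    exact hw
  obtain ⟨l, hl⟩ := KernelFork.IsLimit.lift' hS.fIsKernel _ hw'
  have hl0 : l = 0 := by
    rw [← cancel_mono e₁.hom, Limits.zero_comp]
    exact hom_eq_zero (van_iff.1 (van_sigma (-2) (- -1) (by omega) (by omega))) _
  replace hl : l ≫ S.f = w ≫ e₂.inv := hl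
  rw [hl0, Limits.zero_comp] at hl
  have hw0 : w = 0 := by
    rw [← cancel_mono e₂.inv, Limits.zero_comp, ← hl]
  rw [hψ]
  refine Finset.sum_eq_zero fun i _ => ?_
  have hi : ψ i = w ≫ biprod.snd ≫ Sigma.desc (fun j => if j = i then 𝟙 U else 0) := by
    simp only [w, Category.assoc, biprod.inr_snd_assoc, Preadditive.sum_comp, Sigma.ι_desc]
    rw [Finset.sum_eq_single i]
    · rw [if_pos rfl, Category.comp_id]
    · intro b _ hb
      rw [if_neg hb, Limits.comp_zero]
    · simp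
  rw [hi, hw0, Limits.zero_comp, TensorProduct.zero_tmul]

end forward

section backward

variable [IsAlgClosed k] {F : (P2 k).Modules}

set_option maxHeartbeats 2000000 in
theorem backward (hF : Coh.IsCoh F)
    (a0 : Subsingleton (Coh.HH (P2 k) (CohB1.tensorMod F (O k (-1))) 0))
    (a2 : Subsingleton (Coh.HH (P2 k) (CohB1.tensorMod F (O k (-1))) 2))
    (b1 : Subsingleton (Coh.HH (P2 k) F 1)) (b2 : Subsingleton (Coh.HH (P2 k) F 2))
    (c1 : Subsingleton (Coh.HH (P2 k) (CohB1.tensorMod F (O k 1)) 1))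
    (hμ : Function.Injective (μ F)) :
    ∃ (α₁ α₂ α₃ : ℕ) (S : ShortComplex (P2 k).Modules), S.ShortExact ∧
      Nonempty (S.X₁ ≅ ∐ fun _ : Fin α₁ => O k (-2)) ∧ Nonempty (S.X₂ ≅ mid α₂ α₃) ∧ Nonempty (S.X₃ ≅ F) := by
  classical
  haveI : IsProper (P2 k ↘ Spec (CommRingCat.of k)) := MumfordBound.proper_toSpec (k := k) (n := 2)
  haveI := CMHyper.noetherian k 2
  have hs := setup k 2
  obtain ⟨z⟩ := hs.fam.zero
  haveI : Module.Finite k (U ⟶ F) := H29RR.finite_hom (H10Coh.isCoh_structureModule' _) hF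
  haveI : Module.Finite k (O k (-1) ⟶ F) := H29RR.finite_hom (H11Ample.isCoh_of_isInvertible (hs.fam.inv (-1))) hF
  let c := Module.finrank k (U ⟶ F)
  let e : Module.Basis (Fin c) k (U ⟶ F) := Module.finBasis k _
  obtain ⟨W, hW⟩ := Submodule.exists_isCompl (LinearMap.range (μ F))
  let b := Module.finrank k W
  let f : Module.Basis (Fin b) k W := Module.finBasis k _
  let p : mid b c ⟶ F := biprod.desc (Sigma.desc fun i => (f i : O k (-1) ⟶ F)) (Sigma.desc fun j => e j)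
  have hsurU : ∀ g : U ⟶ F, ∃ g', g' ≫ p = g := fun g =>
    ⟨(∑ j, e.repr g j • Sigma.ι (fun _ : Fin c => U) j) ≫ biprod.inr, by
      simp [p, Preadditive.sum_comp, e.sum_repr]⟩
  have hsur : ∀ g : O k (-1) ⟶ F, ∃ g', g' ≫ p = g := by
    intro g
    have hg : g ∈ W ⊔ LinearMap.range (μ F) := by rw [sup_comm, hW.sup_eq_top]; exact Submodule.mem_top
    obtain ⟨w, hw, _, ⟨t, rfl⟩, rfl⟩ := Submodule.mem_sup.1 hg
    clear hg
    obtain ⟨t', ht'⟩ : ∃ t' : O k (-1) ⟶ mid b c, t' ≫ p = μ F t := by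
      induction t using TensorProduct.induction_on with
      | zero => exact ⟨0, by simp⟩
      | tmul a s =>
        obtain ⟨s', hs'⟩ := hsurU s
        exact ⟨a ≫ s', by rw [Category.assoc, hs']; rfl⟩
      | add x y hx hy =>
        obtain ⟨x', hx'⟩ := hx
        obtain ⟨y', hy'⟩ := hy
        exact ⟨x' + y', by rw [Preadditive.add_comp, hx', hy', map_add]⟩
    refine ⟨(∑ i, f.repr ⟨w, hw⟩ i • Sigma.ι (fun _ : Fin b => O k (-1)) i) ≫ biprod.inl + t', ?_⟩
    rw [Preadditive.add_comp, ht']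
    congr 1
    have := congrArg Subtype.val (f.sum_repr ⟨w, hw⟩)
    simpa [p, Preadditive.sum_comp, Submodule.coe_sum, -Module.Basis.sum_repr] using this
  have hK1 : ∀ g : O k (-1) ⟶ kernel p, g = 0 := by
    intro g
    rw [← cancel_mono (kernel.ι p), Limits.zero_comp]
    let h := g ≫ kernel.ι p
    have hh : h ≫ p = 0 := by simp [h]
    choose a ha using fun i => end_scalar (-1) (((h ≫ biprod.fst) ≫ Sigma.desc fun j => if j = i then 𝟙 (O k (-1)) else 0))
    let ψ : Fin c → (O k (-1) ⟶ U) := fun i => (h ≫ biprod.snd) ≫ Sigma.desc fun j => if j = i then 𝟙 U else 0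
    have hfst : h ≫ biprod.fst = ∑ i, a i • Sigma.ι (fun _ : Fin b => O k (-1)) i := by
      rw [eq_sum_components (h ≫ biprod.fst)]
      refine Finset.sum_congr rfl fun i _ => ?_
      rw [ha i, Linear.smul_comp, Category.id_comp]
    have hsnd : h ≫ biprod.snd = ∑ i, ψ i ≫ Sigma.ι (fun _ : Fin c => U) i := eq_sum_components _
    have hsum : ((∑ i, a i • f i : W) : O k (-1) ⟶ F) + μ F (∑ i, ψ i ⊗ₜ[k] e i) = 0 := by
      rw [← hh]
      conv_rhs => rw [← Category.comp_id h, ← biprod.total, Preadditive.comp_add, ← Category.assoc, ← Category.assoc,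
        hfst, hsnd]
      simp [p, Preadditive.sum_comp, Submodule.coe_sum]
    obtain ⟨hA, hB⟩ : (∑ i, a i • f i : W) = 0 ∧ μ F (∑ i, ψ i ⊗ₜ[k] e i) = 0 := by
      have hm : ((∑ i, a i • f i : W) : O k (-1) ⟶ F) ∈ W ⊓ LinearMap.range (μ F) :=
        ⟨Subtype.mem _, ⟨-(∑ i, ψ i ⊗ₜ[k] e i), by rw [map_neg]; exact neg_eq_of_add_eq_zero_left hsum⟩⟩
      rw [inf_comm, hW.inf_eq_bot, Submodule.mem_bot] at hm
      exact ⟨Subtype.ext hm, by rwa [hm, zero_add] at hsum⟩
    have ha0 : ∀ i, a i = 0 := Fintype.linearIndependent_iff.1 f.linearIndependent a hA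
    have hψ0 : ∀ i, ψ i = 0 := fun i => by
      have h0 := congrArg (TensorProduct.equivFinsuppOfBasisRight e) (hμ (hB.trans (map_zero _).symm))
      have hi := DFunLike.congr_fun h0 i
      simpa [map_sum, Finsupp.finsetSum_apply, TensorProduct.equivFinsuppOfBasisRight_apply_tmul_apply,
        Finsupp.single_apply] using hi
    show h = 0
    rw [← Category.comp_id h, ← biprod.total, Preadditive.comp_add, ← Category.assoc, ← Category.assoc, hfst, hsnd]
    simp [ha0, hψ0]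
  have hU0 : Subsingleton (Coh.HH (P2 k) (CohB1.tensorMod (kernel p) (O k 1)) 0) := by
    simpa using van0_of_hom hK1
  -- `p` is an epimorphism
  have hreg : Reg (fun d => O k d) F 1 := fun i hi => by
    rcases (show i = 1 ∨ i = 2 ∨ 2 < i by omega) with rfl | rfl | hi'
    · exact (van_tensor_zero (q := 1)).2 b1
    · exact van_iff.2 a2
    · exact van_high k 2 hi' (H11Ample.isCoh_tensor hF (hs.fam.inv _)).1
  obtain ⟨b', φ, hφ, -⟩ := CMStep.exists_step hF hreg
  haveI : Epi p := by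
    choose g hg using fun i : Fin b' => hsur (Sigma.ι (fun _ : Fin b' => O k (-1)) i ≫ φ)
    haveI := hφ
    have hfac : Sigma.desc g ≫ p = φ := Sigma.hom_ext _ _ fun i => by rw [Sigma.ι_desc_assoc, hg i]
    haveI : Epi (Sigma.desc g ≫ p) := hfac ▸ hφ
    exact epi_of_epi (Sigma.desc g) p
  have hS : (ShortComplex.mk (kernel.ι p) p (kernel.condition p)).ShortExact :=
    { exact := ShortComplex.exact_kernel _ }
  have hK : Coh.IsCoh (kernel p) := by
    refine H10Coh.isCoh_kernel p ?_ hF.1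
    exact LeadDev.isCoh_biprod (H10Coh.isCoh_sigma _ fun _ => H11Ample.isCoh_of_isInvertible (hs.fam.inv (-1)))
      (H10Coh.isCoh_sigma _ fun _ => H10Coh.isCoh_structureModule' _)
  have hS1 := H10Coh.Tw.shortExact_seq hS (hs.fam.inv 1)
  have hK11 : Van 1 (CohB1.tensorMod (kernel p) (O k 1)) :=
    CMStep.van_left_one hS1 (van_mid 1 (by omega) (by omega) (by omega))
      (by have h := surjective_of_lift (d := -1) p hsur; rw [neg_neg] at h; exact h)
  have hS0 := H10Coh.Tw.shortExact_seq hS (hs.fam.inv 0)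
  have hK10 : Van 1 (CohB1.tensorMod (kernel p) (O k 0)) := by
    refine CMStep.van_left_one hS0 (van_mid 0 (by omega) (by omega) (by omega)) ?_
    have := surjective_of_lift (d := 0) p fun g => by
      obtain ⟨g', hg'⟩ := hsurU (z.inv ≫ g)
      exact ⟨z.hom ≫ g', by rw [Category.assoc, hg', Iso.hom_inv_id_assoc]⟩
    rw [neg_zero] at this
    exact this
  have hK20 : Van 2 (CohB1.tensorMod (kernel p) (O k 0)) :=
    CMStep.van_left (H10Coh.shortExact_sh hS0) (van_mid 0 (by omega) (by omega) (by omega))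
      ((van_tensor_zero (q := 1)).2 b1)
  have hK21 : Van 2 (CohB1.tensorMod (kernel p) (O k 1)) :=
    CMStep.van_left (H10Coh.shortExact_sh hS1) (van_mid 1 (by omega) (by omega) (by omega)) (van_iff.2 c1)
  have hregK : Reg (fun d => O k d) (kernel p) 2 := fun i hi => by
    rcases (show i = 1 ∨ i = 2 ∨ 2 < i by omega) with rfl | rfl | hi'
    · exact hK11
    · exact hK20
    · exact van_high k 2 hi' (H11Ample.isCoh_tensor hK (hs.fam.inv _)).1
  obtain ⟨a, ψ, hψ, hN3, ha⟩ := CMStep.exists_step_le hK hregK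
  haveI := hψ
  have hT : (ShortComplex.mk (kernel.ι ψ) ψ (kernel.condition ψ)).ShortExact :=
    { exact := ShortComplex.exact_kernel _ }
  have hA : Coh.IsCoh (∐ fun _ : Fin a => O k (-2)) :=
    H10Coh.isCoh_sigma _ fun _ => H11Ample.isCoh_of_isInvertible (hs.fam.inv (-2))
  have hN : Coh.IsCoh (kernel ψ) := H10Coh.isCoh_kernel ψ hA hK.1
  have hregN : Reg (fun d => O k d) (kernel ψ) 2 := fun i hi => by
    rcases (show i = 1 ∨ i = 2 ∨ 2 < i by omega) with rfl | rfl | hi'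
    · refine CMStep.van_left (H10Coh.shortExact_sh (H10Coh.Tw.shortExact_seq hT (hs.fam.inv _)))
        (van_sigma (-2) _ (by omega) (by omega)) ?_
      exact van_iff.2 hU0
    · refine CMStep.van_left (H10Coh.shortExact_sh (H10Coh.Tw.shortExact_seq hT (hs.fam.inv _)))
        (van_sigma (-2) _ (by omega) (by omega)) hK10
    · exact van_high k 2 hi' (H11Ample.isCoh_tensor hN (hs.fam.inv _)).1
  have hN20 : Van 0 (CohB1.tensorMod (kernel ψ) (O k 2)) := by
    have hK2 := H11Ample.isCoh_tensor hK (hs.fam.inv 2)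
    have hN2 := H11Ample.isCoh_tensor hN (hs.fam.inv 2)
    have hA2 := H11Ample.isCoh_tensor hA (hs.fam.inv 2)
    have hadd := H25Euler.euler_add (k := k) (H10Coh.Tw.shortExact_seq hT (hs.fam.inv 2)) hN2 hA2 hK2
    have e1 := MumfordBdd.finrank_h0_eq_euler (MumfordBdd.van_at hregK (j := 2) (by omega))
    have e2 := MumfordBdd.finrank_h0_eq_euler (MumfordBdd.van_at hregN (j := 2) (by omega))
    have hva : ∀ i, 1 ≤ i → Van i (CohB1.tensorMod (∐ fun _ : Fin a => O k (-2)) (O k 2)) := fun i hi =>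
      van_sigma (-2) 2 (by omega) (by omega)
    have e3 := MumfordBdd.finrank_h0_eq_euler hva
    have e4 : Module.finrank k (Coh.HH (P2 k) (CohB1.tensorMod (∐ fun _ : Fin a => O k (-2)) (O k 2)) 0) = a := by
      obtain ⟨hsum, -⟩ := H29RR.PnPic.finrank_h0_sum (k := k) (n := 2) two_ne_zero fun _ : Fin a => (0 : ℤ)
      obtain ⟨u⟩ := hs.fam.add (-2) 2
      let B := G k 2
      refine (CurveAmple.finrank_HH_congr (k := k) ((PreservesCoproduct.iso B (fun _ : Fin a => O k (-2))) ≪≫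
        Sigma.mapIso fun _ : Fin a => u ≪≫ eqToIso (congrArg (O k) (by norm_num : (-2 : ℤ) + 2 = 0))) 0).trans ?_
      refine hsum.trans ?_
      have h1 : Module.finrank k (Coh.HH (P2 k) (O k 0) 0) = 1 := by
        rw [show ((0 : ℤ)) = ((0 : ℕ) : ℤ) from rfl, H29RR.PnPic.finrank_h0_nat,
          (H3CAlg.finrank_homogeneous (k := k) 2 0).2]
        rfl
      simp [h1]
    haveI := H10Coh.finite_HH_proper k (P2 k) _ hN2 0
    refine van_iff.2 ((Module.finrank_zero_iff (R := k)).1 ?_ : Subsingleton (Coh.HH (P2 k) (CohB1.tensorMod (kernel ψ) (O k 2)) 0))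
    simp only [P2, O] at hadd e1 e2 e3 e4 ha ⊢
    change Curv2.euler k (CohB1.ProjSpace 2 k) (CohB1.tensorMod (∐ fun _ : Fin a => Twist.twistProjSpace 2 k (-2)) (Twist.twistProjSpace 2 k 2)) = Curv2.euler k (CohB1.ProjSpace 2 k) (CohB1.tensorMod (kernel ψ) (Twist.twistProjSpace 2 k 2)) + Curv2.euler k (CohB1.ProjSpace 2 k) (CohB1.tensorMod (kernel p) (Twist.twistProjSpace 2 k 2)) at hadd
    simp only [P2, O] at hadd
    omega
  have hN0 : IsZero (kernel ψ) := by
    obtain ⟨m, χ, hχ, -, hm⟩ := CMStep.exists_step_le hN hregN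
    haveI := hχ
    haveI := van_iff.1 hN20
    obtain rfl : m = 0 := hm.trans Module.finrank_zero_of_subsingleton
    refine (IsZero.iff_id_eq_zero _).2 ((cancel_epi χ).1 (Sigma.hom_ext _ _ fun i => Fin.elim0 i))
  haveI : Mono ψ := Preadditive.mono_of_isZero_kernel ψ hN0
  haveI : IsIso ψ := isIso_of_mono_of_epi ψ
  exact ⟨a, b, c, _, hS, ⟨(asIso ψ).symm⟩, ⟨Iso.refl _⟩, ⟨Iso.refl _⟩⟩

end backward

end Groth.Agent.H10Coh.Gaeta
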